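import Groth.Prelude.Def_CohTop
import Mathlib.Topology.Sheaves.Skyscraper

/-!
# Stalks of the inverse image of an abelian sheaf (helper36)

For `f : Y ⟶ X` continuous and `F` an abelian sheaf on `X` the canonical map
`σ_y : F_{f y} ⟶ (f^* F)_y` (induced by the unit of the adjunction) is an isomorphism, and every
section of `f^* F` is locally induced by sections of `F`.
-/

set_option autoImplicit false
universe u
open CategoryTheory CategoryTheory.Limits TopologicalSpace Opposite TopCat

namespace Groth.Agent.Lib.Helper36.CptSub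

/-- the presheaf underlying an abelian sheaf, typed as a `TopCat.Presheaf` -/
abbrev psh {X : TopCat.{u}} (F : CohTop.Ab X) : TopCat.Presheaf AddCommGrpCat.{u} X := F.obj

/-- the germ map -/
noncomputable abbrev gm {X : TopCat.{u}} (F : CohTop.Ab X) (U : Opens X) (x : X) (hx : x ∈ U) :
    F.obj.obj (op U) ⟶ CohTop.stalk F x :=
  TopCat.Presheaf.germ (psh F) U x hx

variable {Y X : TopCat.{u}} (f : Y ⟶ X)

/-- the pull-push adjunction -/
noncomputable abbrev adj : CohTop.pull f ⊣ CohTop.push f :=
  TopCat.Sheaf.pullbackPushforwardAdjunction AddCommGrpCat.{u} f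

/-- the unit `F ⟶ f_* f^* F` -/
noncomputable abbrev η (F : CohTop.Ab X) : F ⟶ (CohTop.push f).obj ((CohTop.pull f).obj F) :=
  (adj f).unit.app F

/-- the canonical map `F_{f y} ⟶ (f^* F)_y` -/
noncomputable def σ (F : CohTop.Ab X) (y : Y) :
    CohTop.stalk F (f y) ⟶ CohTop.stalk ((CohTop.pull f).obj F) y :=
  (Presheaf.stalkFunctor AddCommGrpCat.{u} (f y)).map (η f F).hom ≫
    Presheaf.stalkPushforward AddCommGrpCat.{u} f (psh ((CohTop.pull f).obj F)) y

lemma germ_σ (F : CohTop.Ab X) (y : Y) (U : Opens X) (hU : f y ∈ U) :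
    gm F U (f y) hU ≫ σ f F y =
      (η f F).hom.app (op U) ≫ gm ((CohTop.pull f).obj F) ((Opens.map f).obj U) y hU := by
  have h1 := Presheaf.stalkFunctor_map_germ (C := AddCommGrpCat.{u}) U (f y) hU (η f F).hom
  have h2 := Presheaf.stalkPushforward_germ AddCommGrpCat.{u} f
    (psh ((CohTop.pull f).obj F)) U y hU
  exact (Category.assoc _ _ _).symm.trans
    ((congrArg (· ≫ Presheaf.stalkPushforward AddCommGrpCat.{u} f
      (psh ((CohTop.pull f).obj F)) y) h1).trans
      ((Category.assoc _ _ _).trans (congrArg ((η f F).hom.app (op U) ≫ ·) h2)))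

section
open Classical
open StalkSkyscraperPresheafAdjunctionAuxs

variable (F : CohTop.Ab X) (y : Y) (A : AddCommGrpCat.{u})

/-- a map out of the stalk at `f y` as a morphism to the pushforward of a skyscraper sheaf -/
noncomputable def toSkyPush (k : CohTop.stalk F (f y) ⟶ A) :
    F ⟶ (CohTop.push f).obj (skyscraperSheaf y A) :=
  ⟨toSkyscraperPresheaf (f y) k⟩

/-- a map out of the stalk at `y` as a morphism to a skyscraper sheaf -/
noncomputable def toSky (h : CohTop.stalk ((CohTop.pull f).obj F) y ⟶ A) :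
    (CohTop.pull f).obj F ⟶ skyscraperSheaf y A :=
  ⟨toSkyscraperPresheaf y h⟩

lemma η_toSky (h : CohTop.stalk ((CohTop.pull f).obj F) y ⟶ A) :
    η f F ≫ (CohTop.push f).map (toSky f F y A h) = toSkyPush f F y A (σ f F y ≫ h) := by
  ext U : 3
  induction U using Opposite.rec with | _ U => ?_
  change (η f F).hom.app (op U) ≫ (toSkyscraperPresheaf y h).app (op ((Opens.map f).obj U)) =
    (toSkyscraperPresheaf (f y) (σ f F y ≫ h)).app (op U)
  by_cases hU : f y ∈ U
  · have hU' : y ∈ (Opens.map f).obj U := hU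
    rw [toSkyscraperPresheaf_app, toSkyscraperPresheaf_app, dif_pos hU, dif_pos hU']
    rw [← Category.assoc, ← Category.assoc, ← Category.assoc, germ_σ]
    rfl
  · apply (isTerminalSkyscraperSheafObjObjOfNotMem (A := A) (p₀ := f y) (U := op U) hU).hom_ext

lemma fromStalk_toSkyPush (k : CohTop.stalk F (f y) ⟶ A) :
    fromStalk (f y) (toSkyPush f F y A k).hom = k :=
  fromStalk_to_skyscraper (f y) k

lemma fromStalk_toSky (h : CohTop.stalk ((CohTop.pull f).obj F) y ⟶ A) :
    fromStalk y (toSky f F y A h).hom = h :=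
  fromStalk_to_skyscraper y h

lemma toSky_fromStalk (m : (CohTop.pull f).obj F ⟶ skyscraperSheaf y A) :
    toSky f F y A (fromStalk y m.hom) = m := by
  ext : 1
  exact to_skyscraper_fromStalk y m.hom

/-- **the stalk of the inverse image** -/
theorem isIso_σ : IsIso (σ f F y) := by
  apply isIso_of_coyoneda_map_bijective
  intro A
  constructor
  · intro h h' (hh : σ f F y ≫ h = σ f F y ≫ h')
    have e : toSky f F y A h = toSky f F y A h' := by
      apply ((adj f).homEquiv F (skyscraperSheaf y A)).injective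
      rw [Adjunction.homEquiv_unit, Adjunction.homEquiv_unit]
      exact (η_toSky f F y A h).trans
        ((congrArg (toSkyPush f F y A) hh).trans (η_toSky f F y A h').symm)
    have := congrArg (fun m => fromStalk y m.hom) e
    simpa only [fromStalk_toSky] using this
  · intro k
    let m : (CohTop.pull f).obj F ⟶ skyscraperSheaf y A :=
      ((adj f).homEquiv F _).symm (toSkyPush f F y A k)
    refine ⟨fromStalk y m.hom, ?_⟩
    have h1 : η f F ≫ (CohTop.push f).map m = toSkyPush f F y A k := by
      rw [← Adjunction.homEquiv_unit]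
      exact Equiv.apply_symm_apply _ _
    have h2 := η_toSky f F y A (fromStalk y m.hom)
    rw [toSky_fromStalk, h1] at h2
    have := congrArg (fun m => fromStalk (f y) m.hom) h2
    simpa only [fromStalk_toSkyPush] using this.symm

end


section Elements

variable {Y X : TopCat.{u}} (f : Y ⟶ X) (F : CohTop.Ab X)

lemma σ_germ_apply (y : Y) (U : Opens X) (hU : f y ∈ U) (s : F.obj.obj (op U)) :
    σ f F y (gm F U (f y) hU s) =
      gm ((CohTop.pull f).obj F) ((Opens.map f).obj U) y hU ((η f F).hom.app (op U) s) := by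
  have := congrArg (fun φ => (ConcreteCategory.hom φ) s) (germ_σ f F y U hU)
  exact this

lemma σ_bijective (y : Y) : Function.Bijective (σ f F y) := by
  have := isIso_σ f F y
  exact ConcreteCategory.bijective_of_isIso (σ f F y)

/-- restriction of sections -/
noncomputable abbrev rs {X : TopCat.{u}} (F : CohTop.Ab X) {V W : Opens X} (h : V ≤ W) :
    F.obj.obj (op W) ⟶ F.obj.obj (op V) := F.obj.map (homOfLE h).op

lemma gm_rs {X : TopCat.{u}} (F : CohTop.Ab X) {V W : Opens X} (h : V ≤ W) (x : X) (hx : x ∈ V)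
    (s : F.obj.obj (op W)) : gm F V x hx (rs F h s) = gm F W x (h hx) s :=
  TopCat.Presheaf.germ_res_apply (psh F) (homOfLE h) x hx s

/-- every section of `f^* F` is locally induced by sections of `F` -/
lemma exists_local_rep {V : Opens Y} (t : ((CohTop.pull f).obj F).obj.obj (op V)) (y : Y)
    (hy : y ∈ V) :
    ∃ (U : Opens X) (_ : f y ∈ U) (s : F.obj.obj (op U)) (V' : Opens Y) (hV' : V' ≤ V)
      (hV'' : V' ≤ (Opens.map f).obj U), y ∈ V' ∧
      rs _ hV' t = rs _ hV'' ((η f F).hom.app (op U) s) := by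
  obtain ⟨a, ha⟩ := (σ_bijective f F y).2 (gm _ V y hy t)
  obtain ⟨U, hU, s, rfl⟩ := TopCat.Presheaf.exists_germ_eq (psh F) a
  rw [σ_germ_apply] at ha
  obtain ⟨W, hyW, iU, iV, h2⟩ := TopCat.Presheaf.germ_eq (psh ((CohTop.pull f).obj F)) y hU hy _ _ ha
  exact ⟨U, hU, s, W, leOfHom iV, leOfHom iU, hyW, h2.symm⟩

end Elements

end Groth.Agent.Lib.Helper36.CptSub
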