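import Groth.Agent.Lib.Helper36.CptSub.Germ
import Groth.Agent.S3093

/-!
# Gluing sections along a compact relatively Hausdorff subset (helper36)

`core_glue`: let `h : Y ⟶ X` be an embedding of a compact space whose image is relatively
Hausdorff in `X`, `F` an abelian sheaf on `X`; a family of germs `g y ∈ F_{h y}` which is locally
induced by sections of `F` is induced by a single section of `F` on an open neighbourhood of `h(Y)`.
-/

set_option autoImplicit false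
universe u
open CategoryTheory CategoryTheory.Limits TopologicalSpace Opposite TopCat Topology

namespace Groth.Agent.Lib.Helper36.CptSub

variable {X : TopCat.{u}} (F : CohTop.Ab X)

lemma rs_rs {V' V W : Opens X} (h' : V' ≤ V) (h : V ≤ W) (s : F.obj.obj (op W)) :
    rs F h' (rs F h s) = rs F (h'.trans h) s := by
  change (F.obj.map (homOfLE h).op ≫ F.obj.map (homOfLE h').op) s = _
  rw [← F.obj.map_comp]
  rfl

/-- two sections with the same germs are equal -/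
lemma section_ext' {U : Opens X} (s t : F.obj.obj (op U))
    (h : ∀ x (hx : x ∈ U), gm F U x hx s = gm F U x hx t) : s = t :=
  TopCat.Presheaf.section_ext (C := AddCommGrpCat.{u}) F U s t h

/-- gluing two sections -/
lemma exists_glue₂ (U₁ U₂ : Opens X) (s₁ : F.obj.obj (op U₁)) (s₂ : F.obj.obj (op U₂))
    (h : rs F (inf_le_left : U₁ ⊓ U₂ ≤ U₁) s₁ = rs F (inf_le_right : U₁ ⊓ U₂ ≤ U₂) s₂) :
    ∃ s : F.obj.obj (op (U₁ ⊔ U₂)), rs F (le_sup_left : U₁ ≤ U₁ ⊔ U₂) s = s₁ ∧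
      rs F (le_sup_right : U₂ ≤ U₁ ⊔ U₂) s = s₂ := by
  let U : Bool → Opens X := fun b => cond b U₁ U₂
  let sf : ∀ b : Bool, F.obj.obj (op (U b)) := fun b =>
    match b with
    | true => s₁
    | false => s₂
  have hcomp : TopCat.Presheaf.IsCompatible (psh F) U sf := by
    intro i j
    cases i <;> cases j
    · rfl
    · have h' := congrArg (rs F (inf_comm U₂ U₁).le) h
      rw [rs_rs, rs_rs] at h'
      exact h'.symm
    · exact h
    · rfl
  obtain ⟨s, hs, -⟩ := TopCat.Sheaf.existsUnique_gluing' (C := AddCommGrpCat.{u}) F U (U₁ ⊔ U₂)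
    (fun b => match b with
      | true => homOfLE le_sup_left
      | false => homOfLE le_sup_right)
    (by
      rw [sup_le_iff]
      exact ⟨le_iSup U true, le_iSup U false⟩) sf hcomp
  exact ⟨s, hs true, hs false⟩

/-- the locus where two sections have the same germ -/
def agree {U₁ U₂ : Opens X} (s₁ : F.obj.obj (op U₁)) (s₂ : F.obj.obj (op U₂)) : Set X :=
  {x | ∃ (h₁ : x ∈ U₁) (h₂ : x ∈ U₂), gm F U₁ x h₁ s₁ = gm F U₂ x h₂ s₂}

lemma isOpen_agree {U₁ U₂ : Opens X} (s₁ : F.obj.obj (op U₁)) (s₂ : F.obj.obj (op U₂)) :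
    IsOpen (agree F s₁ s₂) := by
  rw [isOpen_iff_forall_mem_open]
  rintro x ⟨h₁, h₂, he⟩
  obtain ⟨W, hxW, i₁, i₂, hW⟩ := TopCat.Presheaf.germ_eq (psh F) x h₁ h₂ s₁ s₂ he
  refine ⟨W, ?_, W.isOpen, hxW⟩
  intro x' hx'
  refine ⟨leOfHom i₁ hx', leOfHom i₂ hx', ?_⟩
  have e₁ := TopCat.Presheaf.germ_res_apply (psh F) i₁ x' hx' s₁
  have e₂ := TopCat.Presheaf.germ_res_apply (psh F) i₂ x' hx' s₂
  exact e₁.symm.trans ((congrArg _ hW).trans e₂)

section Core

variable {Y : TopCat.{u}} (h : Y ⟶ X) (hemb : IsEmbedding h) [CompactSpace Y]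
  (hsep : ∀ y y' : Y, y ≠ y' →
    ∃ U V : Set X, IsOpen U ∧ IsOpen V ∧ h y ∈ U ∧ h y' ∈ V ∧ Disjoint U V)
  (g : ∀ y : Y, CohTop.stalk F (h y))

/-- the family of germs `g` is induced by a section near the closure of `S` -/
def RepOn (S : Set Y) : Prop :=
  ∃ (U : Opens X) (s : F.obj.obj (op U)),
    ∀ y ∈ closure S, ∃ hy : h y ∈ U, g y = gm F U (h y) hy s

include hemb hsep in
lemma repOn_union {S T : Set Y} (hS : RepOn F h g S) (hT : RepOn F h g T) :
    RepOn F h g (S ∪ T) := by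
  obtain ⟨U₁, s₁, h₁⟩ := hS
  obtain ⟨U₂, s₂, h₂⟩ := hT
  -- the closed sets
  obtain ⟨D₁, hD₁, hD₁'⟩ := hemb.isInducing.isClosed_iff.1 (isClosed_closure (s := S))
  obtain ⟨D₂, hD₂, hD₂'⟩ := hemb.isInducing.isClosed_iff.1 (isClosed_closure (s := T))
  have hK : IsCompact (Set.range h) := isCompact_range h.hom.continuous
  have hsep' : ∀ x ∈ Set.range h, ∀ x' ∈ Set.range h, x ≠ x' →
      ∃ U V : Set X, IsOpen U ∧ IsOpen V ∧ x ∈ U ∧ x' ∈ V ∧ Disjoint U V := by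
    rintro _ ⟨y, rfl⟩ _ ⟨y', rfl⟩ hne
    exact hsep y y' (fun e => hne (by rw [e]))
  have hcl : ∀ (D : Set X) (K : Set Y), IsClosed D → h ⁻¹' D = K →
      IsClosed (Subtype.val ⁻¹' (h '' K) : Set (Set.range h)) := by
    intro D K hD hDK
    have : (Subtype.val ⁻¹' (h '' K) : Set (Set.range h)) = Subtype.val ⁻¹' D := by
      rw [← hDK, Set.image_preimage_eq_inter_range]
      ext ⟨x, hx⟩
      simp
    rw [this]
    exact hD.preimage continuous_subtype_val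
  have hW : h '' closure S ∩ h '' closure T ⊆ agree F s₁ s₂ := by
    rintro _ ⟨⟨y, hy, rfl⟩, ⟨y', hy', e⟩⟩
    have e' : y' = y := hemb.injective e
    subst e'
    obtain ⟨a, ha⟩ := h₁ y' hy
    obtain ⟨b, hb⟩ := h₂ y' hy'
    exact ⟨a, b, ha.symm.trans hb⟩
  obtain ⟨O₁, O₂, hO₁, hO₂, hKO₁, hKO₂, hOW⟩ := Groth.Agent.S3093.result hK hsep'
    (Set.image_subset_range h _) (Set.image_subset_range h _)
    (hcl D₁ _ hD₁ hD₁') (hcl D₂ _ hD₂ hD₂') (isOpen_agree F s₁ s₂) hW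
  let V₁ : Opens X := U₁ ⊓ ⟨O₁, hO₁⟩
  let V₂ : Opens X := U₂ ⊓ ⟨O₂, hO₂⟩
  have hV₁ : V₁ ≤ U₁ := inf_le_left
  have hV₂ : V₂ ≤ U₂ := inf_le_left
  have hagree : rs F (inf_le_left : V₁ ⊓ V₂ ≤ V₁) (rs F hV₁ s₁) =
      rs F (inf_le_right : V₁ ⊓ V₂ ≤ V₂) (rs F hV₂ s₂) := by
    apply section_ext'
    intro x hx
    rw [gm_rs, gm_rs, gm_rs, gm_rs]
    obtain ⟨a, b, e⟩ := hOW ⟨hx.1.2, hx.2.2⟩
    exact e
  obtain ⟨s, hs₁, hs₂⟩ := exists_glue₂ F V₁ V₂ _ _ hagree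
  refine ⟨V₁ ⊔ V₂, s, ?_⟩
  intro y hy
  rw [closure_union] at hy
  rcases hy with hy | hy
  · obtain ⟨a, ha⟩ := h₁ y hy
    have hyV : h y ∈ V₁ := ⟨a, hKO₁ ⟨y, hy, rfl⟩⟩
    refine ⟨Or.inl hyV, ?_⟩
    rw [ha, ← gm_rs F (le_sup_left : V₁ ≤ V₁ ⊔ V₂) (h y) hyV s, hs₁, gm_rs]
  · obtain ⟨a, ha⟩ := h₂ y hy
    have hyV : h y ∈ V₂ := ⟨a, hKO₂ ⟨y, hy, rfl⟩⟩
    refine ⟨Or.inr hyV, ?_⟩
    rw [ha, ← gm_rs F (le_sup_right : V₂ ≤ V₁ ⊔ V₂) (h y) hyV s, hs₂, gm_rs]

include hemb hsep in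
/-- **Gluing along a compact relatively Hausdorff subset**: a family of germs along the image
of `h` which is locally induced by sections is induced by a section on a neighbourhood. -/
theorem core_glue
    (hg : ∀ y : Y, ∃ (U : Opens X) (s : F.obj.obj (op U)) (N : Set Y), N ∈ 𝓝 y ∧
      ∀ y' ∈ N, ∃ hy' : h y' ∈ U, g y' = gm F U (h y') hy' s) :
    ∃ (U : Opens X) (hU : ∀ y, h y ∈ U) (s : F.obj.obj (op U)),
      ∀ y, g y = gm F U (h y) (hU y) s := by
  have hT2 : T2Space Y := by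
    refine ⟨fun y y' hne => ?_⟩
    obtain ⟨U, V, hU, hV, hyU, hyV, hd⟩ := hsep y y' hne
    exact ⟨h ⁻¹' U, h ⁻¹' V, hU.preimage h.hom.continuous, hV.preimage h.hom.continuous,
      hyU, hyV, hd.preimage h⟩
  have key : RepOn F h g Set.univ := by
    refine isCompact_univ.induction_on (p := RepOn F h g) ?_ ?_ ?_ ?_
    · refine ⟨⊥, 0, ?_⟩
      intro y hy
      rw [closure_empty] at hy
      exact hy.elim
    · intro S T hST ⟨U, s, hU⟩
      exact ⟨U, s, fun y hy => hU y (closure_mono hST hy)⟩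
    · intro S T hS hT
      exact repOn_union F h hemb hsep g hS hT
    · intro y _
      obtain ⟨U, s, N, hN, hNs⟩ := hg y
      obtain ⟨N', hN', hN'c, hN'N⟩ := exists_mem_nhds_isClosed_subset hN
      refine ⟨N', mem_nhdsWithin_of_mem_nhds hN', U, s, ?_⟩
      intro y' hy'
      rw [hN'c.closure_eq] at hy'
      exact hNs y' (hN'N hy')
  obtain ⟨U, s, hU⟩ := key
  rw [closure_univ] at hU
  exact ⟨U, fun y => (hU y trivial).1, s, fun y => (hU y trivial).2⟩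

end Core

end Groth.Agent.Lib.Helper36.CptSub
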