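import Groth.Agent.Lib.Helper36.CptSub.Glue

/-!
# Sections of the inverse image on a compact relatively Hausdorff subspace (helper36)

* `exists_section_nhd`, `exists_nhd_eq_zero`: `Γ(Y, h^* F) = colim_{U ⊇ h(Y)} F(U)` for an
  embedding `h` of a compact space with relatively Hausdorff image;
* `IsSoft`, `isSoft_pull_of_isFlasque`: the inverse image of a flasque sheaf is soft.
-/

set_option autoImplicit false
universe u
open CategoryTheory CategoryTheory.Limits TopologicalSpace Opposite TopCat Topology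

namespace Groth.Agent.Lib.Helper36.CptSub

variable {Y X : TopCat.{u}} (h : Y ⟶ X) (F : CohTop.Ab X)

/-- the map `F(U) ⟶ (h^* F)(V)` for `V ≤ h⁻¹ U` -/
noncomputable def ηU (U : Opens X) (V : Opens Y) (hV : V ≤ (Opens.map h).obj U) :
    F.obj.obj (op U) ⟶ ((CohTop.pull h).obj F).obj.obj (op V) :=
  (η h F).hom.app (op U) ≫ rs ((CohTop.pull h).obj F) hV

lemma gm_ηU (U : Opens X) (V : Opens Y) (hV : V ≤ (Opens.map h).obj U) (y : Y) (hy : y ∈ V)
    (s : F.obj.obj (op U)) :
    gm ((CohTop.pull h).obj F) V y hy (ηU h F U V hV s) = σ h F y (gm F U (h y) (hV hy) s) := by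
  rw [σ_germ_apply]
  exact gm_rs _ hV y hy _

/-- the germ of a section of `h^* F`, as a germ of `F` -/
noncomputable def germF {V : Opens Y} (t : ((CohTop.pull h).obj F).obj.obj (op V)) (y : Y)
    (hy : y ∈ V) : CohTop.stalk F (h y) :=
  (Equiv.ofBijective _ (σ_bijective h F y)).symm (gm _ V y hy t)

lemma σ_germF {V : Opens Y} (t : ((CohTop.pull h).obj F).obj.obj (op V)) (y : Y)
    (hy : y ∈ V) : σ h F y (germF h F t y hy) = gm _ V y hy t :=
  (Equiv.ofBijective _ (σ_bijective h F y)).apply_symm_apply _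

lemma germF_eq_iff {V : Opens Y} (t : ((CohTop.pull h).obj F).obj.obj (op V)) (y : Y)
    (hy : y ∈ V) (a : CohTop.stalk F (h y)) :
    germF h F t y hy = a ↔ gm _ V y hy t = σ h F y a := by
  rw [← σ_germF h F t y hy]
  exact ⟨fun e => by rw [e], fun e => (σ_bijective h F y).1 e⟩

lemma germF_ηU (U : Opens X) (V : Opens Y) (hV : V ≤ (Opens.map h).obj U) (y : Y) (hy : y ∈ V)
    (s : F.obj.obj (op U)) :
    germF h F (ηU h F U V hV s) y hy = gm F U (h y) (hV hy) s := by
  rw [germF_eq_iff, gm_ηU]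

/-- the germs of a section of `h^* F` are locally induced by sections of `F` -/
lemma germF_locally {V : Opens Y} (t : ((CohTop.pull h).obj F).obj.obj (op V)) (y : Y)
    (hy : y ∈ V) :
    ∃ (U : Opens X) (s : F.obj.obj (op U)) (V' : Opens Y) (hV' : V' ≤ V), y ∈ V' ∧
      ∀ y' (hy' : y' ∈ V'), ∃ hU : h y' ∈ U,
        germF h F t y' (hV' hy') = gm F U (h y') hU s := by
  obtain ⟨U, hU, s, V', hV', hV'', hyV', e⟩ := exists_local_rep h F t y hy
  refine ⟨U, s, V', hV', hyV', ?_⟩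
  intro y' hy'
  refine ⟨hV'' hy', ?_⟩
  rw [germF_eq_iff, σ_germ_apply]
  have := congrArg (gm ((CohTop.pull h).obj F) V' y' hy') e
  rw [gm_rs, gm_rs] at this
  exact this

/-- **Lemma A, injectivity**: a section of `F` near `h(Y)` whose image in `h^* F` vanishes,
vanishes on a (smaller) neighbourhood of `h(Y)`. -/
theorem exists_nhd_eq_zero (U : Opens X) (hU : ⊤ ≤ (Opens.map h).obj U) (s : F.obj.obj (op U))
    (hs : ηU h F U ⊤ hU s = 0) :
    ∃ (U' : Opens X) (hU' : U' ≤ U), (∀ y, h y ∈ U') ∧ rs F hU' s = 0 := by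
  let U' : Opens X := ⟨agree F s (0 : F.obj.obj (op U)), isOpen_agree F _ _⟩
  have hU' : U' ≤ U := fun x hx => hx.1
  refine ⟨U', hU', ?_, ?_⟩
  · intro y
    have hy : h y ∈ U := hU (show y ∈ (⊤ : Opens Y) from trivial)
    refine ⟨hy, hy, ?_⟩
    apply (σ_bijective h F y).1
    rw [← gm_ηU h F U ⊤ hU y trivial s, hs, map_zero, map_zero, map_zero]
  · apply section_ext'
    intro x hx
    rw [gm_rs, map_zero]
    obtain ⟨a, b, e⟩ := hx
    rw [e, map_zero]

section Compact

variable (hemb : IsEmbedding h) [CompactSpace Y]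
  (hsep : ∀ y y' : Y, y ≠ y' →
    ∃ U V : Set X, IsOpen U ∧ IsOpen V ∧ h y ∈ U ∧ h y' ∈ V ∧ Disjoint U V)

include hemb hsep in
/-- **Lemma A, surjectivity**: every global section of `h^* F` is induced by a section of `F` on
a neighbourhood of `h(Y)`. -/
theorem exists_section_nhd (t : ((CohTop.pull h).obj F).obj.obj (op ⊤)) :
    ∃ (U : Opens X) (hU : ⊤ ≤ (Opens.map h).obj U) (s : F.obj.obj (op U)),
      ηU h F U ⊤ hU s = t := by
  obtain ⟨U, hU, s, hs⟩ := core_glue F h hemb hsep (fun y => germF h F t y trivial) (by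
    intro y
    obtain ⟨U, s, V', hV', hyV', hrep⟩ := germF_locally h F t y trivial
    exact ⟨U, s, V', V'.isOpen.mem_nhds hyV', fun y' hy' => hrep y' hy'⟩)
  refine ⟨U, fun y _ => hU y, s, ?_⟩
  apply section_ext'
  intro y hy
  rw [gm_ηU, ← hs y, σ_germF]

end Compact

/-- soft sheaves: a section defined near a closed subset extends, as a family of germs along the
subset, to a global section -/
def IsSoft {Z : TopCat.{u}} (G : CohTop.Ab Z) : Prop :=
  ∀ (K : Set Z), IsClosed K → ∀ (V : Opens Z) (hV : K ⊆ V) (t : G.obj.obj (op V)),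
    ∃ t' : G.obj.obj (op ⊤), ∀ z (hz : z ∈ K), gm G ⊤ z trivial t' = gm G V z (hV hz) t

lemma exists_extension_of_isFlasque (F : CohTop.Ab X) [TopCat.Sheaf.IsFlasque F] (U : Opens X)
    (s : F.obj.obj (op U)) : ∃ s' : F.obj.obj (op ⊤), rs F (le_top : U ≤ ⊤) s' = s := by
  have : Epi (F.obj.map (homOfLE (le_top : U ≤ ⊤)).op) := TopCat.Presheaf.IsFlasque.epi _
  exact (AddCommGrpCat.epi_iff_surjective _).1 this s

section Soft

variable (hemb : IsEmbedding h) [CompactSpace Y]
  (hsep : ∀ y y' : Y, y ≠ y' →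
    ∃ U V : Set X, IsOpen U ∧ IsOpen V ∧ h y ∈ U ∧ h y' ∈ V ∧ Disjoint U V)

include hemb hsep in
/-- the inverse image of a flasque sheaf on a compact relatively Hausdorff subspace is soft -/
theorem isSoft_pull_of_isFlasque [TopCat.Sheaf.IsFlasque F] :
    IsSoft ((CohTop.pull h).obj F) := by
  intro K hK V hV t
  let k : TopCat.of K ⟶ Y := TopCat.ofHom ⟨Subtype.val, continuous_subtype_val⟩
  have : CompactSpace (TopCat.of K) := isCompact_iff_compactSpace.1 hK.isCompact
  have hemb' : IsEmbedding (k ≫ h) := hemb.comp IsEmbedding.subtypeVal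
  have hsep' : ∀ y y' : TopCat.of K, y ≠ y' →
      ∃ U V : Set X, IsOpen U ∧ IsOpen V ∧ (k ≫ h) y ∈ U ∧ (k ≫ h) y' ∈ V ∧ Disjoint U V :=
    fun y y' hne => hsep y.1 y'.1 (fun e => hne (Subtype.ext e))
  obtain ⟨U, hU, s, hs⟩ := core_glue F (k ≫ h) hemb' hsep'
    (fun y => germF h F t y.1 (hV y.2)) (by
      intro y
      obtain ⟨U, s, V', hV', hyV', hrep⟩ := germF_locally h F t y.1 (hV y.2)
      refine ⟨U, s, Subtype.val ⁻¹' (V' : Set Y), ?_, ?_⟩
      · exact (V'.isOpen.preimage continuous_subtype_val).mem_nhds hyV'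
      · intro y' hy'
        exact hrep y'.1 hy')
  obtain ⟨s', hs'⟩ := exists_extension_of_isFlasque F U s
  refine ⟨ηU h F ⊤ ⊤ (fun _ _ => trivial) s', ?_⟩
  intro z hz
  rw [gm_ηU, ← σ_germF h F t z (hV hz)]
  congr 1
  have h1 := hs ⟨z, hz⟩
  have h2 : gm F U (h z) (hU ⟨z, hz⟩) s = gm F ⊤ (h z) trivial s' := by
    rw [← hs', gm_rs]
  exact (h1.trans h2).symm

end Soft

end Groth.Agent.Lib.Helper36.CptSub
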